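import Mathlib.AlgebraicGeometry.Morphisms.Separated
import Mathlib.AlgebraicGeometry.Morphisms.Immersion
import Mathlib.AlgebraicGeometry.Limits

/-!
Criteria of separatedness over an affine base (EGA I 5.5).
-/

open AlgebraicGeometry CategoryTheory Limits TopologicalSpace

universe u v

namespace Groth.Agent.SepCrit

variable {X Y : Scheme.{u}}

/-- In a fibre product of affine schemes the sections are generated by those of the factors. -/
theorem closure_appTop_eq_top {U V P : Scheme.{u}} [IsAffine U] [IsAffine V] [IsAffine Y]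
    {fst : P ⟶ U} {snd : P ⟶ V} {f : U ⟶ Y} {g : V ⟶ Y} (h : IsPullback fst snd f g) :
    Subring.closure (Set.range fst.appTop.hom ∪ Set.range snd.appTop.hom) = ⊤ := by
  let C := Subring.closure (Set.range fst.appTop.hom ∪ Set.range snd.appTop.hom)
  let incl : CommRingCat.of C ⟶ Γ(P, ⊤) := CommRingCat.ofHom C.subtype
  let a : Γ(U, ⊤) ⟶ CommRingCat.of C :=
    CommRingCat.ofHom (fst.appTop.hom.codRestrict C fun z => Subring.subset_closure (Or.inl ⟨z, rfl⟩))
  let b : Γ(V, ⊤) ⟶ CommRingCat.of C :=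
    CommRingCat.ofHom (snd.appTop.hom.codRestrict C fun z => Subring.subset_closure (Or.inr ⟨z, rfl⟩))
  have ha : a ≫ incl = fst.appTop := rfl
  have hb : b ≫ incl = snd.appTop := rfl
  let sU : Spec (CommRingCat.of C) ⟶ U := Spec.map a ≫ U.isoSpec.inv
  let sV : Spec (CommRingCat.of C) ⟶ V := Spec.map b ≫ V.isoSpec.inv
  have comm : sU ≫ f = sV ≫ g := by
    simp only [sU, sV, Category.assoc, ← Scheme.isoSpec_inv_naturality, ← Spec.map_comp_assoc]
    congr 2
    ext z
    have e : f.appTop ≫ fst.appTop = g.appTop ≫ snd.appTop := by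
      rw [← Scheme.Hom.comp_appTop, ← Scheme.Hom.comp_appTop, h.w]
    exact congr($e z)
  have hid : P.toSpecΓ ≫ Spec.map incl ≫ h.lift sU sV comm = 𝟙 P := by
    apply h.hom_ext
    · simp only [Category.assoc, IsPullback.lift_fst, sU, Category.id_comp]
      rw [← Spec.map_comp_assoc, ha, ← Category.assoc, ← Scheme.toSpecΓ_naturality]
      simp [Scheme.isoSpec]
    · simp only [Category.assoc, IsPullback.lift_snd, sV, Category.id_comp]
      rw [← Spec.map_comp_assoc, hb, ← Category.assoc, ← Scheme.toSpecΓ_naturality]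
      simp [Scheme.isoSpec]
  have happ : ((h.lift sU sV comm).appTop ≫ (Scheme.ΓSpecIso _).hom) ≫ incl = 𝟙 Γ(P, ⊤) := by
    rw [← Scheme.Hom.id_appTop, ← hid]
    simp only [Scheme.Hom.comp_appTop, Scheme.toSpecΓ_appTop, Category.assoc,
      Scheme.ΓSpecIso_naturality]
  refine eq_top_iff.2 fun z _ => ?_
  have hz := congr($happ z)
  simp only [CommRingCat.comp_apply, CommRingCat.id_apply] at hz
  rw [← hz]
  exact SetLike.coe_mem (_ : C)

variable (f : X ⟶ Y) (U V : X.Opens)

/-- The map `U ⊓ V ⟶ U ×_Y V`. -/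
noncomputable def delta : (U ⊓ V).toScheme ⟶ pullback (U.ι ≫ f) (V.ι ≫ f) :=
  pullback.lift (X.homOfLE inf_le_left) (X.homOfLE inf_le_right) (by simp)

noncomputable def incl : pullback (U.ι ≫ f) (V.ι ≫ f) ⟶ pullback f f :=
  pullback.map _ _ f f U.ι V.ι (𝟙 Y) (by simp) (by simp)

instance : IsOpenImmersion (incl f U V) :=
  MorphismProperty.pullbackMap (P := @IsOpenImmersion) inferInstance inferInstance rfl rfl

theorem range_incl : Set.range (incl f U V) =
    pullback.fst f f ⁻¹' (U : Set X) ∩ pullback.snd f f ⁻¹' (V : Set X) := by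
  rw [incl, Scheme.Pullback.range_map]
  simp

theorem isClosedImmersion_delta_iff :
    IsClosedImmersion (delta f U V) ↔
      IsClosedImmersion (pullback.diagonal f ∣_ (incl f U V).opensRange) := by
  rw [MorphismProperty.arrow_mk_iso_iff (P := @IsClosedImmersion)
    (morphismRestrictOpensRange (pullback.diagonal f) (incl f U V))]
  have sq : IsPullback (delta f U V) (U ⊓ V).ι (incl f U V) (pullback.diagonal f) := by
    refine IsOpenImmersion.isPullback _ _ _ _ ?_ ?_
    · apply pullback.hom_ext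
      · rw [Category.assoc, pullback.diagonal_fst, Category.comp_id, Category.assoc, incl]
        erw [pullback.lift_fst]
        rw [delta]
        erw [pullback.lift_fst_assoc]
        rw [X.homOfLE_ι]
      · rw [Category.assoc, pullback.diagonal_snd, Category.comp_id, Category.assoc, incl]
        erw [pullback.lift_snd]
        rw [delta]
        erw [pullback.lift_snd_assoc]
        rw [X.homOfLE_ι]
    · ext1
      change (pullback.diagonal f) ⁻¹' Set.range (incl f U V) = Set.range (U ⊓ V).ι
      rw [range_incl, Scheme.Opens.range_ι]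
      ext z
      simp [← Scheme.Hom.comp_apply]
  have e : delta f U V = sq.flip.isoPullback.hom ≫ pullback.snd _ _ :=
    sq.flip.isoPullback_hom_snd.symm
  rw [e, MorphismProperty.cancel_left_of_respectsIso (P := @IsClosedImmersion)]

theorem isClosedImmersion_delta [IsSeparated f] : IsClosedImmersion (delta f U V) :=
  (isClosedImmersion_delta_iff f U V).2
    (IsZariskiLocalAtTarget.restrict IsSeparated.isClosedImmersion_diagonal _)

theorem isSeparated_of_delta {κ : Type v} (U V : κ → X.Opens)
    (hcov : ∀ a b : X, f a = f b → ∃ i, a ∈ U i ∧ b ∈ V i)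
    (h : ∀ i, IsClosedImmersion (delta f (U i) (V i))) : IsSeparated f := by
  refine ⟨(IsZariskiLocalAtTarget.iff_of_iSup_eq_top (P := @IsClosedImmersion)
    (fun i => (incl f (U i) (V i)).opensRange) ?_).2
    fun i => (isClosedImmersion_delta_iff f (U i) (V i)).1 (h i)⟩
  refine top_le_iff.1 fun z _ => Opens.mem_iSup.2 ?_
  obtain ⟨i, hi1, hi2⟩ := hcov (pullback.fst f f z) (pullback.snd f f z)
    (by rw [← Scheme.Hom.comp_apply, ← Scheme.Hom.comp_apply, pullback.condition])
  exact ⟨i, (range_incl f (U i) (V i)).symm.subset ⟨hi1, hi2⟩⟩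

variable {f U V}

theorem range_appTop_homOfLE {W : X.Opens} (hle : W ≤ U) :
    Set.range (X.homOfLE hle).appTop.hom =
      W.topIso.inv '' Set.range (X.presheaf.map (homOfLE hle).op).hom := by
  have e : (X.homOfLE hle).appTop = U.topIso.hom ≫ X.presheaf.map (homOfLE hle).op ≫ W.topIso.inv := by
    simp [Scheme.Opens.topIso]
    erw [← Functor.map_comp, ← Functor.map_comp]
    congr 1
  rw [e]
  ext z
  constructor
  · rintro ⟨a, rfl⟩
    exact ⟨_, ⟨U.topIso.hom a, rfl⟩, rfl⟩
  · rintro ⟨_, ⟨a, rfl⟩, rfl⟩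
    refine ⟨U.topIso.inv a, ?_⟩
    change (U.topIso.inv ≫ U.topIso.hom ≫ X.presheaf.map (homOfLE hle).op ≫ W.topIso.inv) a = _
    rw [Iso.inv_hom_id_assoc]
    rfl

theorem generated_iff_delta [IsAffine Y] (hU : IsAffineOpen U) (hV : IsAffineOpen V)
    (hW : IsAffineOpen (U ⊓ V)) :
    Function.Surjective (delta f U V).appTop ↔
      Subring.closure (Set.range (X.presheaf.map (homOfLE (inf_le_left : U ⊓ V ≤ U)).op).hom ∪
        Set.range (X.presheaf.map (homOfLE (inf_le_right : U ⊓ V ≤ V)).op).hom) = ⊤ := by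
  have : IsAffine U := hU
  have : IsAffine V := hV
  have hP := closure_appTop_eq_top (IsPullback.of_hasPullback (U.ι ≫ f) (V.ι ≫ f))
  have key : (delta f U V).appTop.hom.range =
      (Subring.closure (Set.range (X.presheaf.map (homOfLE (inf_le_left : U ⊓ V ≤ U)).op).hom ∪
        Set.range (X.presheaf.map (homOfLE (inf_le_right : U ⊓ V ≤ V)).op).hom)).map
        (U ⊓ V).topIso.inv.hom := by
    rw [RingHom.map_closure, RingHom.range_eq_map, ← hP, RingHom.map_closure,
      Set.image_union, Set.image_union]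
    congr 2
    · rw [← Set.range_comp]
      change Set.range ((pullback.fst (U.ι ≫ f) (V.ι ≫ f)).appTop ≫ (delta f U V).appTop).hom = _
      rw [← Scheme.Hom.comp_appTop, delta, pullback.lift_fst, range_appTop_homOfLE]
    · rw [← Set.range_comp]
      change Set.range ((pullback.snd (U.ι ≫ f) (V.ι ≫ f)).appTop ≫ (delta f U V).appTop).hom = _
      rw [← Scheme.Hom.comp_appTop, delta, pullback.lift_snd, range_appTop_homOfLE]
  constructor
  · intro hs
    rw [RingHom.range_eq_top.2 hs] at key
    have hinj : Function.Injective (U ⊓ V).topIso.inv.hom :=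
      (U ⊓ V).topIso.symm.commRingCatIsoToRingEquiv.injective
    rw [← Subring.comap_map_eq_self_of_injective hinj (Subring.closure _), ← key]
    exact Subring.comap_top _
  · intro hs
    rw [hs, ← RingHom.range_eq_map, RingHom.range_eq_top.2
      (show Function.Surjective (U ⊓ V).topIso.inv.hom from
        (U ⊓ V).topIso.symm.commRingCatIsoToRingEquiv.surjective)] at key
    exact RingHom.range_eq_top.1 key

theorem isSeparated_iff [IsAffine Y] {ι : Type v} (U : ι → X.Opens)
    (hU : ∀ i, IsAffineOpen (U i)) (hcov : ⨆ i, U i = ⊤) :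
    IsSeparated f ↔ ∀ i j, IsAffineOpen (U i ⊓ U j) ∧
      Subring.closure (Set.range (X.presheaf.map (homOfLE (inf_le_left : U i ⊓ U j ≤ U i)).op).hom ∪
        Set.range (X.presheaf.map (homOfLE (inf_le_right : U i ⊓ U j ≤ U j)).op).hom) = ⊤ := by
  constructor
  · intro _ i j
    have := isClosedImmersion_delta f (U i) (U j)
    have : IsAffine (U i) := hU i
    have : IsAffine (U j) := hU j
    have hW : IsAffineOpen (U i ⊓ U j) := isAffine_of_isAffineHom (delta f (U i) (U j))
    refine ⟨hW, (generated_iff_delta (f := f) (hU i) (hU j) hW).1 ?_⟩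
    exact (IsClosedImmersion.isAffine_surjective_of_isAffine (delta f (U i) (U j))).2
  · intro h
    refine isSeparated_of_delta f (fun p : ι × ι => U p.1) (fun p => U p.2) (fun a b _ => ?_)
      fun p => ?_
    · obtain ⟨i, hi⟩ := Opens.mem_iSup.1 (show a ∈ ⨆ i, U i from hcov ▸ trivial)
      obtain ⟨j, hj⟩ := Opens.mem_iSup.1 (show b ∈ ⨆ i, U i from hcov ▸ trivial)
      exact ⟨(i, j), hi, hj⟩
    · obtain ⟨hW, hgen⟩ := h p.1 p.2
      have : IsAffine (U p.1) := hU p.1
      have : IsAffine (U p.2) := hU p.2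
      have : IsAffine (U p.1 ⊓ U p.2 : X.Opens).toScheme := hW
      exact IsClosedImmersion.of_surjective_of_isAffine _
        ((generated_iff_delta (hU p.1) (hU p.2) hW).2 hgen)

theorem isSeparated_of_common_affine [IsAffine Y]
    (h : ∀ x y : X, f x = f y → ∃ U : X.Opens, IsAffineOpen U ∧ x ∈ U ∧ y ∈ U) : IsSeparated f := by
  refine isSeparated_of_delta f (fun U : {U : X.Opens // IsAffineOpen U} => U.1) (fun U => U.1)
    (fun a b hab => ?_) fun U => ?_
  · obtain ⟨U, hU, ha, hb⟩ := h a b hab
    exact ⟨⟨U, hU⟩, ha, hb⟩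
  · have hW : IsAffineOpen (U.1 ⊓ U.1) := by rw [inf_idem]; exact U.2
    have : IsAffine U.1 := U.2
    have : IsAffine (U.1 ⊓ U.1 : X.Opens).toScheme := hW
    refine IsClosedImmersion.of_surjective_of_isAffine _ ((generated_iff_delta U.2 U.2 hW).2 ?_)
    refine eq_top_iff.2 fun z _ => Subring.subset_closure (Or.inl ?_)
    refine ⟨X.presheaf.map (homOfLE (le_inf le_rfl le_rfl : U.1 ≤ U.1 ⊓ U.1)).op z, ?_⟩
    change (X.presheaf.map _ ≫ X.presheaf.map _) z = z
    rw [← Functor.map_comp, show (homOfLE (le_inf le_rfl le_rfl : U.1 ≤ U.1 ⊓ U.1)).op ≫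
      (homOfLE (inf_le_left : U.1 ⊓ U.1 ≤ U.1)).op = 𝟙 _ from Subsingleton.elim _ _, X.presheaf.map_id]
    rfl

theorem isSeparated_iff_of_closed_cover (f : X ⟶ Y) {n : ℕ} (Z : Fin n → Scheme.{u})
    (g : ∀ k, Z k ⟶ X) [∀ k, IsClosedImmersion (g k)]
    (hcov : ∀ x : X, ∃ k, x ∈ Set.range (g k)) :
    IsSeparated f ↔ ∀ k, IsSeparated (g k ≫ f) := by
  refine ⟨fun _ k => inferInstance, fun h => ⟨IsClosedImmersion.of_isPreimmersion _ ?_⟩⟩
  let m : ∀ k, pullback (g k ≫ f) (g k ≫ f) ⟶ pullback f f := fun k =>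
    pullback.map _ _ f f (g k) (g k) (𝟙 Y) (by simp) (by simp)
  have hm : ∀ k, IsClosedImmersion (m k) := fun k =>
    MorphismProperty.pullbackMap (P := @IsClosedImmersion) inferInstance inferInstance rfl rfl
  have e : ∀ k, pullback.diagonal (g k ≫ f) ≫ m k = g k ≫ pullback.diagonal f := fun k => by
    apply pullback.hom_ext
    · rw [Category.assoc, Category.assoc, pullback.diagonal_fst, Category.comp_id]
      erw [pullback.lift_fst]
      rw [pullback.diagonal_fst_assoc]
    · rw [Category.assoc, Category.assoc, pullback.diagonal_snd, Category.comp_id]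
      erw [pullback.lift_snd]
      rw [pullback.diagonal_snd_assoc]
  have key : Set.range (pullback.diagonal f) =
      ⋃ k, Set.range (pullback.diagonal (g k ≫ f) ≫ m k) := by
    ext z
    constructor
    · rintro ⟨x, rfl⟩
      obtain ⟨k, w, rfl⟩ := hcov x
      exact Set.mem_iUnion.2 ⟨k, w, by rw [e]; rfl⟩
    · intro hz
      obtain ⟨k, w, rfl⟩ := Set.mem_iUnion.1 hz
      exact ⟨g k w, by rw [e]; rfl⟩
  rw [key]
  refine isClosed_iUnion_of_finite fun k => ?_
  have := h k
  have := hm k
  exact (pullback.diagonal (g k ≫ f) ≫ m k).isClosedEmbedding.isClosed_range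

end Groth.Agent.SepCrit
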